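import Cfsg.Agent.H226.Tall.Defs
import Cfsg.Agent.H237.AltCP

/-!
# S2927, rows `A_7`, `A_11` (`NotCP`) and `A_n`, `n ≥ 7` (`RowTwo`) (helper839)
-/

set_option autoImplicit false
set_option linter.unusedVariables false

namespace Cfsg.Agent.H839.Tall

open Subgroup Equiv Cfsg
open Cfsg.Agent.H239.CharPLocal (CP)
open Cfsg.Agent.H226.Tall

variable {n : ℕ} {z : ↥(alternatingGroup (Fin n))}

/-- the number of points moved by `z` -/
theorem supp_mod (hz : orderOf z = 2) :
    (z : Perm (Fin n)).support.card % 4 = 0 ∧ 0 < (z : Perm (Fin n)).support.card := by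
  have ho : orderOf (z : Perm (Fin n)) = 2 := by rw [Subgroup.orderOf_coe, hz]
  constructor
  · have h1 : (z : Perm (Fin n)).cycleType = Multiset.replicate (Multiset.card (z : Perm (Fin n)).cycleType) 2 := by
      rw [Multiset.eq_replicate]
      refine ⟨rfl, fun b hb => ?_⟩
      have h2 := Perm.dvd_of_mem_cycleType hb
      rw [ho] at h2
      rcases (Nat.dvd_prime Nat.prime_two).1 h2 with h3 | h3
      · have := Perm.two_le_of_mem_cycleType hb
        omega
      · exact h3
    have h2 : Perm.sign (z : Perm (Fin n)) = 1 := z.2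
    rw [Perm.sign_of_cycleType, h1, Multiset.sum_replicate, Multiset.card_replicate, smul_eq_mul] at h2
    rw [← Perm.sum_cycleType, h1, Multiset.sum_replicate, smul_eq_mul]
    generalize Multiset.card (z : Perm (Fin n)).cycleType = m at *
    have h3 : Even (m * 2 + m) := by
      by_contra hodd
      rw [Nat.not_even_iff_odd] at hodd
      rw [hodd.neg_one_pow] at h2
      exact absurd h2 (by decide)
    obtain ⟨k, hk⟩ := h3
    omega
  · rw [Finset.card_pos, Finset.nonempty_iff_ne_empty, Ne, Perm.support_eq_empty_iff]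
    intro h1
    rw [h1, orderOf_one] at ho
    omega

theorem card_fix (g : Perm (Fin n)) : Fintype.card {ω // g ω = ω} + g.support.card = n := by
  have h1 := Fintype.card_subtype_compl (fun ω => g ω = ω)
  have h2 : g.support.card = Fintype.card {ω // ¬ g ω = ω} := by
    rw [Fintype.card_subtype]
    congr 1
  have h3 := Fintype.card_subtype_le (fun ω => g ω = ω)
  rw [Fintype.card_fin] at h1 h3
  omega

/-- **`A_7`, `A_11`**: the centralizers of involutions are not of characteristic `2`. -/
theorem notCP_alt {n : ℕ} (hn : n = 7 ∨ n = 11) : NotCP ↥(alternatingGroup (Fin n)) := by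
  intro z hz hcp
  have : Fact (Nat.Prime 2) := ⟨Nat.prime_two⟩
  have h1 := Cfsg.Agent.H237.AltCP.cp_cent hcp
  have h2 := supp_mod hz.1
  have h3 := card_fix (z : Perm (Fin n))
  omega

theorem cyc_fix {a b c x : Fin n} (ha : x ≠ a) (hb : x ≠ b) (hc : x ≠ c) : (swap a b * swap a c) x = x := by
  rw [Perm.mul_apply, swap_apply_of_ne_of_ne ha hc, swap_apply_of_ne_of_ne ha hb]

/-- an even permutation of order `3` commuting with `z` -/
theorem exists_three (hn : 7 ≤ n) (hz : orderOf z = 2) :
    ∃ w : ↥(alternatingGroup (Fin n)), w * z = z * w ∧ orderOf w = 3 := by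
  have hfix := card_fix (z : Perm (Fin n))
  by_cases h3 : 3 ≤ Fintype.card {ω // (z : Perm (Fin n)) ω = ω}
  · -- a `3`-cycle on fixed points
    have h4 : 2 < (Finset.univ : Finset {ω // (z : Perm (Fin n)) ω = ω}).card := by
      rw [Finset.card_univ]; omega
    obtain ⟨a, b, c, -, -, -, hab, hac, hbc⟩ := Finset.two_lt_card_iff.1 h4
    have hab' : (a : Fin n) ≠ b := fun h => hab (Subtype.ext h)
    have hac' : (a : Fin n) ≠ c := fun h => hac (Subtype.ext h)
    have hbc' : (b : Fin n) ≠ c := fun h => hbc (Subtype.ext h)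
    have hcyc := Perm.isThreeCycle_swap_mul_swap_same hab' hac' hbc'
    refine ⟨⟨swap (a : Fin n) b * swap (a : Fin n) c, hcyc.mem_alternatingGroup⟩, ?_, ?_⟩
    · apply Subtype.ext
      show (swap (a : Fin n) b * swap (a : Fin n) c) * (z : Perm (Fin n)) =
        (z : Perm (Fin n)) * (swap (a : Fin n) b * swap (a : Fin n) c)
      have hd : Perm.Disjoint (swap (a : Fin n) b * swap (a : Fin n) c) (z : Perm (Fin n)) := by
        intro x
        by_cases hx : x = a ∨ x = b ∨ x = c
        · right
          rcases hx with rfl | rfl | rfl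
          · exact a.2
          · exact b.2
          · exact c.2
        · push Not at hx
          left
          exact cyc_fix hx.1 hx.2.1 hx.2.2
      exact hd.commute
    · rw [Subgroup.orderOf_mk]
      exact hcyc.orderOf
  · -- a product of two `3`-cycles
    have hzz : ∀ x, (z : Perm (Fin n)) ((z : Perm (Fin n)) x) = x := by
      intro x
      have h1 : z * z = 1 := by rw [← pow_two, ← hz, pow_orderOf_eq_one]
      exact congrArg (fun g : ↥(alternatingGroup (Fin n)) => (g : Perm (Fin n)) x) h1
    have h5 : 5 ≤ (z : Perm (Fin n)).support.card := by omega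
    obtain ⟨a, ha⟩ : ((z : Perm (Fin n)).support).Nonempty := by
      rw [← Finset.card_pos]; omega
    obtain ⟨b, hb, hb'⟩ : ∃ b ∈ (z : Perm (Fin n)).support, b ∉ ({a, (z : Perm (Fin n)) a} : Finset (Fin n)) := by
      apply Finset.exists_mem_notMem_of_card_lt_card
      exact lt_of_le_of_lt (Finset.card_le_two) (by omega)
    obtain ⟨c, hc, hc'⟩ : ∃ c ∈ (z : Perm (Fin n)).support,
        c ∉ ({a, (z : Perm (Fin n)) a, b, (z : Perm (Fin n)) b} : Finset (Fin n)) := by
      apply Finset.exists_mem_notMem_of_card_lt_card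
      exact lt_of_le_of_lt (Finset.card_le_four) (by omega)
    rw [Perm.mem_support] at ha hb hc
    simp only [Finset.mem_insert, Finset.mem_singleton, not_or] at hb' hc'
    obtain ⟨hba, hbza⟩ := hb'
    obtain ⟨hca, hcza, hcb, hczb⟩ := hc'
    have hcyc := Perm.isThreeCycle_swap_mul_swap_same (Ne.symm hba) (Ne.symm hca) (Ne.symm hcb)
    set c1 : ↥(alternatingGroup (Fin n)) := ⟨swap a b * swap a c, hcyc.mem_alternatingGroup⟩ with hc1
    have ho : orderOf c1 = 3 := by rw [hc1, Subgroup.orderOf_mk]; exact hcyc.orderOf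
    have hz1 : z * z = 1 := by rw [← pow_two, ← hz, pow_orderOf_eq_one]
    have hzi : z⁻¹ = z := inv_eq_of_mul_eq_one_left hz1
    have hd : Commute c1 (z * c1 * z⁻¹) := by
      have h6 : Perm.Disjoint (c1 : Perm (Fin n)) ((z * c1 * z⁻¹ : ↥(alternatingGroup (Fin n))) : Perm (Fin n)) := by
        intro x
        by_cases hx : (z : Perm (Fin n)) x = a ∨ (z : Perm (Fin n)) x = b ∨ (z : Perm (Fin n)) x = c
        · left
          have hxa : x ≠ a := by
            rintro rfl
            rcases hx with h | h | h
            · exact ha h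
            · exact hbza h.symm
            · exact hcza h.symm
          have hxb : x ≠ b := by
            rintro rfl
            rcases hx with h | h | h
            · apply hbza; rw [← h, hzz]
            · exact hb h
            · exact hczb h.symm
          have hxc : x ≠ c := by
            rintro rfl
            rcases hx with h | h | h
            · apply hcza; rw [← h, hzz]
            · apply hczb; rw [← h, hzz]
            · exact hc h
          exact cyc_fix hxa hxb hxc
        · right
          push Not at hx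
          rw [hzi]
          show (z : Perm (Fin n)) ((c1 : Perm (Fin n)) ((z : Perm (Fin n)) x)) = x
          have h7 : (c1 : Perm (Fin n)) ((z : Perm (Fin n)) x) = (z : Perm (Fin n)) x := cyc_fix hx.1 hx.2.1 hx.2.2
          rw [h7, hzz]
      exact Subtype.ext h6.commute
    have hne : c1 * (z * c1 * z⁻¹) ≠ 1 := by
      intro h
      have h8 : (c1 : Perm (Fin n)) (((z * c1 * z⁻¹ : ↥(alternatingGroup (Fin n))) : Perm (Fin n)) a) = a :=
        congrArg (fun g : ↥(alternatingGroup (Fin n)) => (g : Perm (Fin n)) a) h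
      have h9 : (((z * c1 * z⁻¹ : ↥(alternatingGroup (Fin n))) : Perm (Fin n)) a) = a := by
        rw [hzi]
        show (z : Perm (Fin n)) ((c1 : Perm (Fin n)) ((z : Perm (Fin n)) a)) = a
        have h7 : (c1 : Perm (Fin n)) ((z : Perm (Fin n)) a) = (z : Perm (Fin n)) a :=
          cyc_fix ha (fun h => hbza h.symm) (fun h => hcza h.symm)
        rw [h7, hzz]
      rw [h9] at h8
      have h10 : (swap a b * swap a c) a = c := by
        rw [Perm.mul_apply, swap_apply_left, swap_apply_of_ne_of_ne hca hcb]
      have h11 : (c1 : Perm (Fin n)) a = c := h10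
      rw [h11] at h8
      exact hca h8
    refine ⟨c1 * (z * c1 * z⁻¹), ?_, ?_⟩
    · have h12 : z * (c1 * (z * c1 * z⁻¹)) = (z * c1 * z⁻¹) * c1 * z := by
        rw [hzi]
        have : z * (c1 * (z * c1 * z)) = z * c1 * z * c1 * z := by group
        rw [this]
      rw [h12, hd.eq]
    · have h13 : (c1 * (z * c1 * z⁻¹)) ^ 3 = 1 := by
        rw [hd.mul_pow, conj_pow, ← ho, pow_orderOf_eq_one, mul_one, mul_inv_cancel, one_mul]
      exact orderOf_eq_prime h13 hne

/-- **`A_n`, `n ≥ 7`**: no centralizer of an involution is a `2`-group. -/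
theorem rowTwo_alt {n : ℕ} (hn : 7 ≤ n) : RowTwo ↥(alternatingGroup (Fin n)) := by
  intro z hz h2
  obtain ⟨w, hw, h3⟩ := exists_three hn hz.1
  obtain ⟨k, hk⟩ := h2 ⟨w, mem_centralizer_singleton_iff.2 hw⟩
  have hk' : w ^ 2 ^ k = 1 := congrArg Subtype.val hk
  have h4 := orderOf_dvd_of_pow_eq_one hk'
  rw [h3] at h4
  have := Nat.prime_three.dvd_of_dvd_pow h4
  omega

end Cfsg.Agent.H839.Tall
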